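import Groth.Agent.RatExtLib.Reduction

/-!
# Local extensions with prescribed reduction
-/

set_option autoImplicit false
set_option linter.style.haveILetI false
set_option maxHeartbeats 1000000
set_option backward.isDefEq.respectTransparency false

universe u

open CategoryTheory CategoryTheory.Limits AlgebraicGeometry TopologicalSpace

namespace RatExtLib

variable {X Y S Z : Scheme.{u}} {f : X ⟶ S} {g : Y ⟶ S} {U : S.Opens} {h : ↑(f ⁻¹ᵁ U) ⟶ Y}
  {iZ : Z ⟶ X} {h₀ : Z ⟶ Y}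

/-- Morphisms to an affine scheme agreeing at field valued points through all points. -/
theorem eq_of_fieldPoints {P V : Scheme.{u}} [IsReduced P] [IsAffine V] (a b : P ⟶ V)
    (hp : ∀ p : P, ∃ (k : Type u) (_ : Field k) (m : Spec (CommRingCat.of k) ⟶ P),
      m (IsLocalRing.closedPoint k) = p ∧ m ≫ a = m ≫ b) : a = b := by
  choose k hk m hm hab using hp
  let F : P → Scheme.{u} := fun p => Spec (CommRingCat.of (k p))
  let d : (∐ F) ⟶ P := Sigma.desc fun p => m p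
  haveI : IsDominant d := by
    haveI : Surjective d := ⟨fun p => ⟨(Sigma.ι F p) (IsLocalRing.closedPoint (k p)), by
      rw [← Scheme.Hom.comp_apply]
      simp only [d, colimit.ι_desc, Cofan.mk_ι_app]
      exact hm p⟩⟩
    infer_instance
  refine ext_of_isDominant d ?_
  refine Sigma.hom_ext _ _ fun p => ?_
  simp only [d, colimit.ι_desc_assoc, Cofan.mk_ι_app]
  exact hab p

/-- Morphisms from a local scheme agreeing generically, with a common affine target. -/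
theorem gamma_unique {C : CommRingCat.{u}} {V : Y.Opens} (hV : IsAffineOpen V) {R : CommRingCat.{u}}
    (γ γ' : Γ(Y, V) ⟶ R) (e : Spec.map γ ≫ hV.fromSpec = Spec.map γ' ≫ hV.fromSpec) : γ = γ' :=
  Spec.map_injective ((cancel_mono hV.fromSpec).1 e)

/-- Agreement at a point of the closed part, through a trait. -/
theorem exists_point_eq [IsClosedImmersion iZ]
    (hZ : Set.range ⇑iZ = ((f ⁻¹ᵁ U : X.Opens) : Set ↥X)ᶜ) (H : DvrHyp f g U h iZ h₀)
    {W : X.Opens} {G : (W : Scheme.{u}) ⟶ Y} {Y₀ : Y.Opens} (hY₀ : IsAffineOpen Y₀)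
    (hUpart : X.homOfLE (inf_le_left : W ⊓ f ⁻¹ᵁ U ≤ W) ≫ G = X.homOfLE (inf_le_right : W ⊓ f ⁻¹ᵁ U ≤ f ⁻¹ᵁ U) ≫ h)
    (hG₀ : ∀ w : (W : Scheme.{u}), G w ∈ Y₀) (hwZ : ∀ z' : Z, iZ z' ∈ W → h₀ z' ∈ Y₀)
    {L : Type u} [Field L] (R : ValuationSubring L) (hR : IsDiscreteValuationRing R)
    (t : Spec (CommRingCat.of R) ⟶ X) (z' : Z) (hz'W : iZ z' ∈ W) (ht : t (IsLocalRing.closedPoint R) = iZ z')
    {p₀ : X} (hp₀ : p₀ ∈ f ⁻¹ᵁ U) (p : X) (hp : p = p₀) {r : Spec (CommRingCat.of L) ⟶ X}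
    (hgen : Spec.map (CommRingCat.ofHom R.subtype) ≫ t = r) (hr : r (IsLocalRing.closedPoint L) = p := by exact Scheme.fromSpecResidueField_apply _ _) :
    ∃ (k : Type u) (_ : Field k) (m : Spec (CommRingCat.of k) ⟶ Z), m (IsLocalRing.closedPoint k) = z' ∧
      ∀ m' : Spec (CommRingCat.of k) ⟶ (W : Scheme.{u}), m' ≫ W.ι = m ≫ iZ → m' ≫ G = m ≫ h₀ := by
  subst hp
  have hcl : t (IsLocalRing.closedPoint R) ∉ f ⁻¹ᵁ U := by
    have : iZ z' ∈ Set.range iZ := ⟨z', rfl⟩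
    rw [hZ] at this
    rw [ht]; exact this
  have hrt : Set.range t.base ⊆ Set.range W.ι.base := by
    rintro _ ⟨x, rfl⟩
    rw [Scheme.Opens.range_ι]
    exact (specializes_closedPoint_image t x).mem_open W.2 (ht ▸ hz'W)
  let tW := IsOpenImmersion.lift W.ι t hrt
  have htW : tW ≫ W.ι = t := IsOpenImmersion.lift_fac _ _ _
  let b : Spec (CommRingCat.of L) ⟶ (W : Scheme.{u}) := Spec.map (CommRingCat.ofHom R.subtype) ≫ tW
  have hb : b ≫ W.ι = r := by rw [Category.assoc, htW, hgen]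
  have hrP : Set.range r.base ⊆ Set.range (W ⊓ f ⁻¹ᵁ U).ι.base := by
    rintro _ ⟨x, rfl⟩
    rw [Scheme.Opens.range_ι, Subsingleton.elim x (IsLocalRing.closedPoint L)]
    refine ⟨?_, hr ▸ hp₀⟩
    rw [← hb, Scheme.Hom.comp_apply]
    exact (b (IsLocalRing.closedPoint L)).2
  let bP := IsOpenImmersion.lift (W ⊓ f ⁻¹ᵁ U).ι r hrP
  let a := bP ≫ X.homOfLE (inf_le_right : W ⊓ f ⁻¹ᵁ U ≤ f ⁻¹ᵁ U)
  have ha : a ≫ (f ⁻¹ᵁ U).ι = r := by rw [Category.assoc, Scheme.homOfLE_ι, IsOpenImmersion.lift_fac]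
  have hbG : b ≫ G = a ≫ h := by
    have : bP ≫ X.homOfLE (inf_le_left : W ⊓ f ⁻¹ᵁ U ≤ W) = b := by
      rw [← cancel_mono W.ι, Category.assoc, Scheme.homOfLE_ι, IsOpenImmersion.lift_fac, hb]
    rw [← this, Category.assoc, hUpart, Category.assoc]
  haveI := hR
  obtain ⟨τ, -, hτ, hτ'⟩ := exists_trait (K := L) H t hcl a (ha.trans hgen.symm)
  obtain ⟨c, hc⟩ := exists_residueLift hZ t hcl
  have hres : (Spec.map (CommRingCat.ofHom (IsLocalRing.residue R))) (IsLocalRing.closedPoint _) =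
      IsLocalRing.closedPoint R := IsLocalRing.comap_closedPoint (IsLocalRing.residue R)
  have hcz : c (IsLocalRing.closedPoint _) = z' := iZ.isClosedEmbedding.injective (by
    rw [← Scheme.Hom.comp_apply, hc, Scheme.Hom.comp_apply, hres, ht])
  obtain ⟨γ, hγ⟩ := DvrDomLib.exists_specMap_fromSpec τ hY₀ (by
    rw [← hres, ← Scheme.Hom.comp_apply, hτ' c hc, Scheme.Hom.comp_apply, hcz]
    exact hwZ _ hz'W)
  obtain ⟨γ', hγ'⟩ := DvrDomLib.exists_specMap_fromSpec (tW ≫ G) hY₀ (by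
    rw [Scheme.Hom.comp_apply]; exact hG₀ _)
  have hγγ : γ = γ' := by
    have e : γ ≫ CommRingCat.ofHom (algebraMap R L) = γ' ≫ CommRingCat.ofHom (algebraMap R L) := by
      refine gamma_unique (C := Γ(Y, Y₀)) hY₀ _ _ ?_
      rw [Spec.map_comp, Spec.map_comp, Category.assoc, Category.assoc, hγ, hγ', hτ]
      exact hbG.symm.trans (Category.assoc _ _ _)
    ext x
    exact RingHom.congr_fun (congrArg CommRingCat.Hom.hom e) x
  have hτG : τ = tW ≫ G := by rw [← hγ, hγγ, hγ']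
  refine ⟨_, inferInstance, c, hcz, fun m' hm' => ?_⟩
  have : m' = Spec.map (CommRingCat.ofHom (IsLocalRing.residue R)) ≫ tW := by
    rw [← cancel_mono W.ι, hm', hc, Category.assoc, htW]
  rw [this, Category.assoc, ← hτG, hτ' c hc]

/-- Agreement on the closed part. -/
theorem agree_on_Z [IsLocallyNoetherian X] [IsClosedImmersion iZ] [IsReduced Z]
    (hZ : Set.range ⇑iZ = ((f ⁻¹ᵁ U : X.Opens) : Set ↥X)ᶜ) (H : DvrHyp f g U h iZ h₀)
    {W : X.Opens} {G : (W : Scheme.{u}) ⟶ Y} {Y₀ : Y.Opens} (hY₀ : IsAffineOpen Y₀)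
    (hUpart : X.homOfLE (inf_le_left : W ⊓ f ⁻¹ᵁ U ≤ W) ≫ G = X.homOfLE (inf_le_right : W ⊓ f ⁻¹ᵁ U ≤ f ⁻¹ᵁ U) ≫ h)
    (hG₀ : ∀ w : (W : Scheme.{u}), G w ∈ Y₀) (hwZ : ∀ z' : Z, iZ z' ∈ W → h₀ z' ∈ Y₀)
    {p : X} (hpU : p ∈ f ⁻¹ᵁ U) (hspec : ∀ z' : Z, iZ z' ∈ W → p ⤳ iZ z') :
    (iZ ∣_ W) ≫ G = (iZ ⁻¹ᵁ W).ι ≫ h₀ := by
  haveI : IsAffine (Y₀ : Scheme.{u}) := hY₀
  have hr1 : Set.range ((iZ ∣_ W) ≫ G).base ⊆ Set.range Y₀.ι.base := by
    rintro _ ⟨s, rfl⟩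
    rw [Scheme.Opens.range_ι]
    exact hG₀ _
  have hr2 : Set.range ((iZ ⁻¹ᵁ W).ι ≫ h₀).base ⊆ Set.range Y₀.ι.base := by
    rintro _ ⟨s, rfl⟩
    rw [Scheme.Opens.range_ι]
    exact hwZ _ s.2
  haveI : IsReduced ((iZ ⁻¹ᵁ W : Z.Opens) : Scheme.{u}) := isReduced_of_isOpenImmersion (iZ ⁻¹ᵁ W).ι
  have : IsOpenImmersion.lift Y₀.ι _ hr1 = IsOpenImmersion.lift Y₀.ι _ hr2 := by
    refine eq_of_fieldPoints _ _ fun s => ?_
    let z' : Z := (iZ ⁻¹ᵁ W).ι s
    have hz'U : iZ z' ∉ f ⁻¹ᵁ U := by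
      have : iZ z' ∈ Set.range iZ := ⟨z', rfl⟩
      rwa [hZ] at this
    have hsp : p ⤳ iZ z' := hspec z' s.2
    obtain ⟨R, t, hR, ht, hgen⟩ :=
      DvrDomLib.exists_dvr_through_specialization (𝟙 X) p (iZ z') hsp (fun e => hz'U (e ▸ hpU))
    rw [Category.comp_id] at hgen
    obtain ⟨k, hk, m, hm, hmeq⟩ := exists_point_eq hZ H hY₀ hUpart hG₀ hwZ R hR t z' s.2 ht hpU p rfl hgen
    have hrm : Set.range m.base ⊆ Set.range (iZ ⁻¹ᵁ W).ι.base := by
      rintro _ ⟨x, rfl⟩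
      rw [Scheme.Opens.range_ι, Subsingleton.elim x (IsLocalRing.closedPoint k), hm]
      exact s.2
    refine ⟨k, hk, IsOpenImmersion.lift (iZ ⁻¹ᵁ W).ι m hrm, ?_, ?_⟩
    · apply (iZ ⁻¹ᵁ W).ι.isOpenEmbedding.injective
      rw [← Scheme.Hom.comp_apply, IsOpenImmersion.lift_fac, hm]
    · rw [← cancel_mono Y₀.ι, Category.assoc, Category.assoc, IsOpenImmersion.lift_fac, IsOpenImmersion.lift_fac,
        IsOpenImmersion.lift_fac_assoc]
      exact hmeq _ (by rw [Category.assoc, morphismRestrict_ι, IsOpenImmersion.lift_fac_assoc _ _ hrm])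
  rw [← IsOpenImmersion.lift_fac Y₀.ι _ hr1, this, IsOpenImmersion.lift_fac]


theorem exists_ext_local [IsLocallyNoetherian X] [IsLocallyNoetherian S] [Flat f]
    [IsClosedImmersion iZ] [IsReduced Z] (hU : Dense (U : Set S)) (hh : h ≫ g = (f ⁻¹ᵁ U).ι ≫ f)
    (hZ : Set.range ⇑iZ = ((f ⁻¹ᵁ U : X.Opens) : Set ↥X)ᶜ) (hh₀ : h₀ ≫ g = iZ ≫ f)
    (hnorm : ∀ z : Z, IsDomain (X.presheaf.stalk (iZ z)) ∧ IsIntegrallyClosed (X.presheaf.stalk (iZ z)))
    (H : DvrHyp f g U h iZ h₀) (z : Z) :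
    ∃ (W : X.Opens) (G : (W : Scheme.{u}) ⟶ Y), iZ z ∈ W ∧ IsReduced (W : Scheme.{u}) ∧ G ≫ g = W.ι ≫ f ∧
      X.homOfLE (inf_le_left : W ⊓ f ⁻¹ᵁ U ≤ W) ≫ G = X.homOfLE (inf_le_right : W ⊓ f ⁻¹ᵁ U ≤ f ⁻¹ᵁ U) ≫ h ∧
      (iZ ∣_ W) ≫ G = (iZ ⁻¹ᵁ W).ι ≫ h₀ := by
  classical
  haveI := (hnorm z).1
  obtain ⟨_, ⟨(S₀ : S.Opens), hS₀, rfl⟩, hfx, -⟩ :=
    S.isBasis_affineOpens.exists_subset_of_mem_open (Set.mem_univ (f (iZ z))) isOpen_univ
  obtain ⟨_, ⟨(Y₀ : Y.Opens), hY₀, rfl⟩, hy, hY₀S⟩ := Y.isBasis_affineOpens.exists_subset_of_mem_open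
    (show h₀ z ∈ g ⁻¹ᵁ S₀ by show g (h₀ z) ∈ S₀; rw [← Scheme.Hom.comp_apply, hh₀]; exact hfx) (g ⁻¹ᵁ S₀).2
  obtain ⟨W, hW, hxW, hWO, hWint, hwU, hwZ⟩ := exists_nhd hZ H z Y₀ hy (f ⁻¹ᵁ S₀) hfx
  haveI := hWint
  haveI : Nonempty W := ⟨⟨_, hxW⟩⟩
  let A := Γ(X, W)
  haveI : IsDomain A := W.topIso.symm.commRingCatIsoToRingEquiv.toMulEquiv.isDomain Γ((W : Scheme.{u}), ⊤)
  haveI : IsNoetherianRing A := IsLocallyNoetherian.component_noetherian ⟨W, hW⟩
  let K := FractionRing A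
  let j := hW.fromSpec
  let η : Spec (CommRingCat.of K) ⟶ Spec A := Spec.map (CommRingCat.ofHom (algebraMap A K))
  have hηgen : η (IsLocalRing.closedPoint K) = genericPoint (Spec A) := genericPoint_specMap
  have hηU : j (η (IsLocalRing.closedPoint K)) ∈ f ⁻¹ᵁ U := by
    obtain ⟨p, hpW, hpU⟩ := (Groth.Agent.S11142.result X S f U hU).inter_open_nonempty _ W.2 ⟨_, hxW⟩
    obtain ⟨p', hp'⟩ : p ∈ Set.range j := by rw [hW.range_fromSpec]; exact hpW
    rw [hηgen]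
    exact ((genericPoint_specializes p').map j.continuous).mem_open (f ⁻¹ᵁ U).2 (hp' ▸ hpU)
  have hrη : Set.range (η ≫ j).base ⊆ Set.range (f ⁻¹ᵁ U).ι.base := by
    rintro _ ⟨s, rfl⟩
    rw [Scheme.Opens.range_ι, Subsingleton.elim s (IsLocalRing.closedPoint K)]
    exact hηU
  let aK := IsOpenImmersion.lift (f ⁻¹ᵁ U).ι (η ≫ j) hrη
  have haK : aK ≫ (f ⁻¹ᵁ U).ι = η ≫ j := IsOpenImmersion.lift_fac _ _ _
  have haW : (f ⁻¹ᵁ U).ι (aK (IsLocalRing.closedPoint K)) ∈ W := by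
    rw [← Scheme.Hom.comp_apply, haK, Scheme.Hom.comp_apply]
    have : j (η (IsLocalRing.closedPoint K)) ∈ Set.range j := ⟨_, rfl⟩
    rwa [hW.range_fromSpec] at this
  obtain ⟨ψ, hψ⟩ := DvrDomLib.exists_specMap_fromSpec (aK ≫ h) hY₀ (by
    rw [Scheme.Hom.comp_apply]; exact hwU _ haW)
  have hclosed : ∀ {R : Type u} [CommRing R] [IsLocalRing R] (tA : Spec (CommRingCat.of R) ⟶ Spec A),
      (tA ≫ j) (IsLocalRing.closedPoint R) ∈ W := fun tA => by
    rw [Scheme.Hom.comp_apply]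
    have : j (tA (IsLocalRing.closedPoint _)) ∈ Set.range j := ⟨_, rfl⟩
    rwa [hW.range_fromSpec] at this
  -- the pull back of `ψ` factors through local rings in the open part
  have hfacU : ∀ (R : Type u) [CommRing R] [IsLocalRing R] (α : A ⟶ CommRingCat.of R) (β : R →+* K),
      β.comp α.hom = algebraMap A K → (Spec.map α ≫ j) (IsLocalRing.closedPoint R) ∈ f ⁻¹ᵁ U →
      ∃ γ : Γ(Y, Y₀) ⟶ CommRingCat.of R, γ ≫ CommRingCat.ofHom β = ψ := by
    intro R _ _ α β hβ hc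
    have hr : Set.range (Spec.map α ≫ j).base ⊆ Set.range (f ⁻¹ᵁ U).ι.base := by
      rintro _ ⟨s, rfl⟩
      rw [Scheme.Opens.range_ι]
      exact (specializes_closedPoint_image _ s).mem_open (f ⁻¹ᵁ U).2 hc
    let l := IsOpenImmersion.lift (f ⁻¹ᵁ U).ι (Spec.map α ≫ j) hr
    have hl : l ≫ (f ⁻¹ᵁ U).ι = Spec.map α ≫ j := IsOpenImmersion.lift_fac _ _ _
    obtain ⟨γ, hγ⟩ := DvrDomLib.exists_specMap_fromSpec (l ≫ h) hY₀ (by
      rw [Scheme.Hom.comp_apply]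
      refine hwU _ ?_
      show (f ⁻¹ᵁ U).ι (l (IsLocalRing.closedPoint R)) ∈ W
      rw [← Scheme.Hom.comp_apply, hl]
      exact hclosed _)
    refine ⟨γ, gamma_unique (C := A) hY₀ _ _ ?_⟩
    rw [Spec.map_comp, Category.assoc, hγ, hψ, ← Category.assoc]
    congr 1
    rw [← cancel_mono (f ⁻¹ᵁ U).ι, Category.assoc, hl, haK, ← Category.assoc, ← Spec.map_comp]
    congr 2
    ext x
    exact RingHom.congr_fun hβ x
  have hint : ∀ c, IsIntegral A (ψ.hom c) := fun c => by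
    by_contra hc
    obtain ⟨R, hR, hAR, hcR⟩ := DvrDomLib.exists_dvr_not_mem (A := A) (L := K) ∅ (by
      rw [eq_top_iff]
      rintro x -
      obtain ⟨a, b, -, rfl⟩ := IsFractionRing.div_surjective A x
      exact div_mem (Subfield.subset_closure (Or.inl ⟨a, rfl⟩)) (Subfield.subset_closure (Or.inl ⟨b, rfl⟩))) _ hc
    haveI := hR
    let α : A ⟶ CommRingCat.of R := CommRingCat.ofHom ((algebraMap A K).codRestrict R.toSubring hAR)
    refine hcR ?_
    suffices hγ : ∃ γ : Γ(Y, Y₀) ⟶ CommRingCat.of R, γ ≫ CommRingCat.ofHom R.subtype = ψ by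
      obtain ⟨γ, hγ⟩ := hγ
      rw [← hγ]
      exact (γ.hom c).2
    by_cases hc : (Spec.map α ≫ j) (IsLocalRing.closedPoint R) ∈ f ⁻¹ᵁ U
    · exact hfacU R α R.subtype rfl hc
    have hαj : Spec.map (CommRingCat.ofHom (algebraMap R K)) ≫ Spec.map α ≫ j = η ≫ j := by
      rw [← Category.assoc, ← Spec.map_comp]; rfl
    obtain ⟨τ, -, hτ, hτ'⟩ := exists_trait (K := K) H (Spec.map α ≫ j) hc aK (haK.trans hαj.symm)
    obtain ⟨cc, hcc⟩ := exists_residueLift hZ _ hc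
    have hres : (Spec.map (CommRingCat.ofHom (IsLocalRing.residue R))) (IsLocalRing.closedPoint _) =
        IsLocalRing.closedPoint R := IsLocalRing.comap_closedPoint (IsLocalRing.residue R)
    obtain ⟨γ, hγ⟩ := DvrDomLib.exists_specMap_fromSpec τ hY₀ (by
      rw [← hres, ← Scheme.Hom.comp_apply, hτ' cc hcc, Scheme.Hom.comp_apply]
      refine hwZ _ ?_
      rw [← Scheme.Hom.comp_apply, hcc, Scheme.Hom.comp_apply, hres]
      exact hclosed _)
    refine ⟨γ, gamma_unique (C := A) hY₀ _ _ ?_⟩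
    rw [Spec.map_comp, Category.assoc, hγ, hψ]
    exact hτ
  have hmemA : ∀ c, ∃ a : A, algebraMap A K a = ψ.hom c := fun c => by
    let I : Ideal A :=
      { carrier := {a | ∃ b : A, algebraMap A K b = algebraMap A K a * ψ.hom c}
        add_mem' := fun {a a'} ⟨b, hb⟩ ⟨b', hb'⟩ => ⟨b + b', by rw [map_add, hb, hb', map_add, add_mul]⟩
        zero_mem' := ⟨0, by simp⟩
        smul_mem' := fun r a ⟨b, hb⟩ => ⟨r * b, by rw [map_mul, hb, smul_eq_mul, map_mul, mul_assoc]⟩ }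
    suffices hI : I = ⊤ by
      obtain ⟨b, hb⟩ : (1 : A) ∈ I := hI ▸ trivial
      exact ⟨b, by rw [hb, map_one, one_mul]⟩
    by_contra hI
    obtain ⟨q, hq, hIq⟩ := Ideal.exists_le_maximal I hI
    suffices ∃ s ∈ q.primeCompl, s ∈ I by
      obtain ⟨s, hs, hsI⟩ := this
      exact hs (hIq hsI)
    let p₀ : Spec A := (⟨q, hq.isPrime⟩ : PrimeSpectrum A)
    let O := Localization.AtPrime q
    let β : O →+* K := IsLocalization.lift (M := q.primeCompl) (g := algebraMap A K) fun y =>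
      isUnit_iff_ne_zero.2 ((map_ne_zero_iff _ (IsFractionRing.injective A K)).2 fun e => y.2 (e ▸ q.zero_mem))
    have hβ : β.comp (algebraMap A O) = algebraMap A K := IsLocalization.lift_comp _
    suffices ∃ o : O, β o = ψ.hom c by
      obtain ⟨o, ho⟩ := this
      obtain ⟨b, s, rfl⟩ := IsLocalization.exists_mk'_eq q.primeCompl o
      refine ⟨s, s.2, b, ?_⟩
      have h' := congrArg β (IsLocalization.mk'_spec O b s)
      rw [map_mul, ho] at h'
      have e1 := RingHom.congr_fun hβ (s : A)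
      have e2 := RingHom.congr_fun hβ b
      simp only [RingHom.comp_apply] at e1 e2
      rw [e1, e2] at h'
      rw [← h', mul_comm]
    have hcp : (Spec.map (CommRingCat.ofHom (algebraMap A O))) (IsLocalRing.closedPoint O) = p₀ :=
      PrimeSpectrum.ext (Localization.AtPrime.under_maximalIdeal)
    by_cases hp : j p₀ ∈ f ⁻¹ᵁ U
    · obtain ⟨γ, hγ⟩ := hfacU O (CommRingCat.ofHom (algebraMap A O)) β hβ (by
        exact (congrArg (fun x => j x ∈ f ⁻¹ᵁ U) hcp).mpr hp)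
      exact ⟨γ.hom c, RingHom.congr_fun (congrArg CommRingCat.Hom.hom hγ) c⟩
    · obtain ⟨z', hz'⟩ : j p₀ ∈ Set.range iZ := by rw [hZ]; exact hp
      haveI : IsIntegrallyClosed O := by
        have e : IsIntegrallyClosed (X.presheaf.stalk (j p₀)) := hz' ▸ (hnorm z').2
        have hjp : j p₀ ∈ W := by
          have : j p₀ ∈ Set.range j := ⟨_, rfl⟩
          rwa [hW.range_fromSpec] at this
        have hp0 : hW.primeIdealOf ⟨j p₀, hjp⟩ = p₀ := j.isOpenEmbedding.injective (hW.fromSpec_primeIdealOf _)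
        letI : Algebra A (X.presheaf.stalk (j p₀)) := X.presheaf.algebra_section_stalk ⟨j p₀, hjp⟩
        haveI : IsLocalization.AtPrime (X.presheaf.stalk (j p₀)) q := by
          have := hW.isLocalization_stalk ⟨j p₀, hjp⟩
          convert this
          exact (congrArg PrimeSpectrum.asIdeal hp0).symm
        exact IsIntegrallyClosed.of_equiv (IsLocalization.algEquiv q.primeCompl (X.presheaf.stalk (j p₀)) O).toRingEquiv
      letI : Algebra O K := β.toAlgebra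
      haveI : IsScalarTower A O K := IsScalarTower.of_algebraMap_eq fun a => (RingHom.congr_fun hβ a).symm
      haveI : IsFractionRing O K := IsFractionRing.isFractionRing_of_isDomain_of_isLocalization q.primeCompl O K
      obtain ⟨o, ho⟩ := (isIntegrallyClosed_iff K).1 inferInstance ((hint c).tower_top (A := O))
      exact ⟨o, ho⟩
  have hinjK := IsFractionRing.injective A K
  choose ψ₀ hψ₀ using hmemA
  let ψA : Γ(Y, Y₀) ⟶ A := CommRingCat.ofHom
    { toFun := ψ₀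
      map_one' := hinjK (by rw [hψ₀, map_one, map_one])
      map_mul' := fun a b => hinjK (by simp [hψ₀])
      map_zero' := hinjK (by rw [hψ₀, map_zero, map_zero])
      map_add' := fun a b => hinjK (by simp [hψ₀]) }
  have hψA : ψA ≫ CommRingCat.ofHom (algebraMap A K) = ψ := by ext c; exact hψ₀ c
  let GA : Spec A ⟶ Y := Spec.map ψA ≫ hY₀.fromSpec
  have hηG : η ≫ GA = aK ≫ h := by rw [← Category.assoc, ← Spec.map_comp, hψA, hψ]
  have hGg : GA ≫ g = j ≫ f := by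
    have hr1 : Set.range (GA ≫ g).base ⊆ Set.range S₀.ι.base := by
      rintro _ ⟨s, rfl⟩
      rw [Scheme.Opens.range_ι]
      show g (hY₀.fromSpec (Spec.map ψA s)) ∈ S₀
      have : hY₀.fromSpec (Spec.map ψA s) ∈ Set.range hY₀.fromSpec := ⟨_, rfl⟩
      rw [hY₀.range_fromSpec] at this
      exact hY₀S this
    have hr2 : Set.range (j ≫ f).base ⊆ Set.range S₀.ι.base := by
      rintro _ ⟨s, rfl⟩
      rw [Scheme.Opens.range_ι]
      show f (j s) ∈ S₀
      have : j s ∈ Set.range j := ⟨_, rfl⟩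
      rw [hW.range_fromSpec] at this
      exact hWO this
    haveI : IsAffine (S₀ : Scheme.{u}) := hS₀
    have : IsOpenImmersion.lift S₀.ι _ hr1 = IsOpenImmersion.lift S₀.ι _ hr2 := by
      haveI : IsDominant η := ⟨fun s => (genericPoint_specializes s).mem_closed isClosed_closure
        (subset_closure ⟨_, hηgen⟩)⟩
      refine ext_of_isDominant η ?_
      rw [← cancel_mono S₀.ι]
      simp only [Category.assoc, IsOpenImmersion.lift_fac]
      rw [reassoc_of% hηG, hh, ← Category.assoc, haK, Category.assoc]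
    rw [← IsOpenImmersion.lift_fac S₀.ι _ hr1, this, IsOpenImmersion.lift_fac]
  -- on the open
  haveI : IsAffine (W : Scheme.{u}) := hW
  haveI : IsAffine (Y₀ : Scheme.{u}) := hY₀
  let G : (W : Scheme.{u}) ⟶ Y := hW.isoSpec.hom ≫ GA
  have hjι : hW.isoSpec.hom ≫ j = W.ι := hW.isoSpec_hom_fromSpec
  have hG₀ : ∀ w : (W : Scheme.{u}), G w ∈ Y₀ := fun w => by
    show hY₀.fromSpec (Spec.map ψA (hW.isoSpec.hom w)) ∈ Y₀
    have : hY₀.fromSpec (Spec.map ψA (hW.isoSpec.hom w)) ∈ Set.range hY₀.fromSpec := ⟨_, rfl⟩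
    rwa [hY₀.range_fromSpec] at this
  have hUpart : X.homOfLE (inf_le_left : W ⊓ f ⁻¹ᵁ U ≤ W) ≫ G = X.homOfLE (inf_le_right : W ⊓ f ⁻¹ᵁ U ≤ f ⁻¹ᵁ U) ≫ h := by
    let P := W ⊓ f ⁻¹ᵁ U
    have hr1 : Set.range (X.homOfLE (inf_le_left : P ≤ W) ≫ G).base ⊆ Set.range Y₀.ι.base := by
      rintro _ ⟨s, rfl⟩
      rw [Scheme.Opens.range_ι]
      exact hG₀ _
    have hr2 : Set.range (X.homOfLE (inf_le_right : P ≤ f ⁻¹ᵁ U) ≫ h).base ⊆ Set.range Y₀.ι.base := by
      rintro _ ⟨s, rfl⟩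
      rw [Scheme.Opens.range_ι]
      refine hwU _ ?_
      show (f ⁻¹ᵁ U).ι ((X.homOfLE (inf_le_right : P ≤ f ⁻¹ᵁ U)) s) ∈ W
      rw [← Scheme.Hom.comp_apply, Scheme.homOfLE_ι]
      exact s.2.1
    have hrP : Set.range (η ≫ j).base ⊆ Set.range P.ι.base := by
      rintro _ ⟨s, rfl⟩
      rw [Scheme.Opens.range_ι, Subsingleton.elim s (IsLocalRing.closedPoint K)]
      exact ⟨hclosed η, hηU⟩
    let m := IsOpenImmersion.lift P.ι (η ≫ j) hrP
    have hm : m ≫ P.ι = η ≫ j := IsOpenImmersion.lift_fac _ _ _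
    haveI : IsReduced (P : Scheme.{u}) := isReduced_of_isOpenImmersion (X.homOfLE (inf_le_left : P ≤ W))
    haveI : IsDominant m := ⟨fun s => by
      obtain ⟨s', hs'⟩ : P.ι s ∈ Set.range j := by rw [hW.range_fromSpec]; exact s.2.1
      have : m (IsLocalRing.closedPoint K) ⤳ s := by
        rw [← P.ι.isOpenEmbedding.isInducing.specializes_iff, ← Scheme.Hom.comp_apply, hm, Scheme.Hom.comp_apply,
          hηgen, ← hs']
        exact (genericPoint_specializes s').map j.continuous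
      exact this.mem_closed isClosed_closure (subset_closure ⟨_, rfl⟩)⟩
    have : IsOpenImmersion.lift Y₀.ι _ hr1 = IsOpenImmersion.lift Y₀.ι _ hr2 := by
      refine ext_of_isDominant m ?_
      rw [← cancel_mono Y₀.ι, Category.assoc, Category.assoc, IsOpenImmersion.lift_fac, IsOpenImmersion.lift_fac]
      have e1 : m ≫ X.homOfLE (inf_le_left : P ≤ W) ≫ hW.isoSpec.hom = η := by
        rw [← cancel_mono j]; simp only [Category.assoc, hjι]; rw [Scheme.homOfLE_ι, hm]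
      have e2 : m ≫ X.homOfLE (inf_le_right : P ≤ f ⁻¹ᵁ U) = aK := by
        rw [← cancel_mono (f ⁻¹ᵁ U).ι, Category.assoc, Scheme.homOfLE_ι, hm, haK]
      rw [show m ≫ X.homOfLE (inf_le_left : P ≤ W) ≫ G = (m ≫ X.homOfLE (inf_le_left : P ≤ W) ≫ hW.isoSpec.hom) ≫ GA by
        simp [G], e1, hηG, reassoc_of% e2]
    rw [← IsOpenImmersion.lift_fac Y₀.ι _ hr1, this, IsOpenImmersion.lift_fac]
  refine ⟨W, G, hxW, inferInstance, by rw [Category.assoc, hGg, reassoc_of% hjι], hUpart, ?_⟩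
  refine agree_on_Z hZ H hY₀ hUpart hG₀ hwZ (p := j (η (IsLocalRing.closedPoint K))) hηU fun z' hz' => ?_
  obtain ⟨s', hs'⟩ : iZ z' ∈ Set.range j := by rw [hW.range_fromSpec]; exact hz'
  rw [← hs', show j (η (IsLocalRing.closedPoint K)) = j (genericPoint (Spec A)) from congrArg j hηgen]
  exact (genericPoint_specializes s').map j.continuous

end RatExtLib
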