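import Groth.Agent.RatExtLib.Local
import Groth.Agent.S11142

/-!
# Gluing the local extensions
-/

set_option autoImplicit false
set_option linter.style.haveILetI false
set_option maxHeartbeats 1000000
set_option backward.isDefEq.respectTransparency false

universe u

open CategoryTheory CategoryTheory.Limits AlgebraicGeometry TopologicalSpace

namespace RatExtLib

/-- Morphisms out of a reduced scheme agreeing pointwise and on a dense open. -/
theorem eq_of_pointwise_of_dense {P Y : Scheme.{u}} [IsReduced P] (a b : P ⟶ Y) (O : P.Opens)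
    (hO : Dense (O : Set P)) (hpt : ∀ x, a x = b x) (e : O.ι ≫ a = O.ι ≫ b) : a = b := by
  choose V' hV' hxV using fun x : P => exists_isAffineOpen_mem_and_subset (X := Y) (x := a x) (U := ⊤) trivial
  let Q : P → P.Opens := fun x => a ⁻¹ᵁ V' x
  have hQ : IsOpenCover Q := by
    exact eq_top_iff.2 fun x _ => TopologicalSpace.Opens.mem_iSup.2 ⟨x, by
      exact (hxV x).1⟩
  refine Scheme.Cover.hom_ext (P.openCoverOfIsOpenCover Q hQ) _ _ fun x => ?_
  show (Q x).ι ≫ a = (Q x).ι ≫ b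
  haveI : IsAffine (V' x : Scheme.{u}) := hV' x
  have hra : Set.range ((Q x).ι ≫ a).base ⊆ Set.range (V' x).ι.base := by
    rintro _ ⟨s, rfl⟩
    rw [Scheme.Opens.range_ι]
    exact s.2
  have hrb : Set.range ((Q x).ι ≫ b).base ⊆ Set.range (V' x).ι.base := by
    rintro _ ⟨s, rfl⟩
    rw [Scheme.Opens.range_ι]
    show b ((Q x).ι s) ∈ V' x
    rw [← hpt]
    exact s.2
  haveI : IsReduced (Q x : Scheme.{u}) := isReduced_of_isOpenImmersion (Q x).ι
  let D := (Q x).ι ⁻¹ᵁ O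
  haveI : IsDominant D.ι := ⟨by
    show Dense (Set.range D.ι)
    rw [Scheme.Opens.range_ι]
    exact hO.preimage (Q x).ι.isOpenEmbedding.isOpenMap⟩
  have : IsOpenImmersion.lift (V' x).ι _ hra = IsOpenImmersion.lift (V' x).ι _ hrb := by
    refine ext_of_isDominant D.ι ?_
    rw [← cancel_mono (V' x).ι]
    simp only [Category.assoc, IsOpenImmersion.lift_fac]
    have : D.ι ≫ (Q x).ι = ((Q x).ι ∣_ O) ≫ O.ι := (morphismRestrict_ι _ _).symm
    rw [reassoc_of% this, reassoc_of% this, e]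
  rw [← IsOpenImmersion.lift_fac (V' x).ι _ hra, this, IsOpenImmersion.lift_fac]

variable {X Y S Z : Scheme.{u}} {f : X ⟶ S} {g : Y ⟶ S} {U : S.Opens} {h : ↑(f ⁻¹ᵁ U) ⟶ Y}
  {iZ : Z ⟶ X} {h₀ : Z ⟶ Y}

/-- Gluing. -/
theorem exists_ext [IsLocallyNoetherian X] [IsLocallyNoetherian S] [Flat f]
    [IsClosedImmersion iZ] [IsReduced Z] (hU : Dense (U : Set S)) (hh : h ≫ g = (f ⁻¹ᵁ U).ι ≫ f)
    (hZ : Set.range ⇑iZ = ((f ⁻¹ᵁ U : X.Opens) : Set ↥X)ᶜ) (hh₀ : h₀ ≫ g = iZ ≫ f)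
    (hnorm : ∀ z : Z, IsDomain (X.presheaf.stalk (iZ z)) ∧ IsIntegrallyClosed (X.presheaf.stalk (iZ z)))
    (H : DvrHyp f g U h iZ h₀) :
    ∃ h' : X ⟶ Y, h' ≫ g = f ∧ (f ⁻¹ᵁ U).ι ≫ h' = h ∧ iZ ≫ h' = h₀ := by
  choose W G hzW hWred hGg hGU hGZ using exists_ext_local hU hh hZ hh₀ hnorm H
  let O : Option Z → X.Opens := fun i => i.elim (f ⁻¹ᵁ U) W
  have hO : IsOpenCover O := by
    refine eq_top_iff.2 fun x _ => TopologicalSpace.Opens.mem_iSup.2 ?_
    by_cases hx : x ∈ f ⁻¹ᵁ U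
    · exact ⟨none, hx⟩
    · obtain ⟨z, rfl⟩ : x ∈ Set.range iZ := by rw [hZ]; exact hx
      exact ⟨some z, hzW z⟩
  let m : ∀ i, (O i : Scheme.{u}) ⟶ Y := fun i =>
    match i with
    | none => h
    | some z => G z
  have hnot : ∀ c : Z, iZ c ∉ f ⁻¹ᵁ U := fun c hc => by
    have : iZ c ∈ Set.range iZ := ⟨c, rfl⟩
    rw [hZ] at this
    exact this hc
  have hmg : ∀ i, m i ≫ g = (O i).ι ≫ f := by
    rintro (_ | z)
    · exact hh
    · exact hGg z
  have keyU : ∀ i {T : Scheme.{u}} (t : T ⟶ O i) (r : T ⟶ ↑(f ⁻¹ᵁ U)),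
      t ≫ (O i).ι = r ≫ (f ⁻¹ᵁ U).ι → t ≫ m i = r ≫ h := by
    rintro (_ | z) T t r e
    · rw [(cancel_mono (f ⁻¹ᵁ U).ι).1 e]
    · have hr : Set.range (t ≫ (W z).ι).base ⊆ Set.range (W z ⊓ f ⁻¹ᵁ U).ι.base := by
        rintro _ ⟨s, rfl⟩
        rw [Scheme.Opens.range_ι]
        refine ⟨(t s).2, ?_⟩
        rw [show t ≫ (W z).ι = r ≫ (f ⁻¹ᵁ U).ι from e]
        exact (r s).2
      let l := IsOpenImmersion.lift _ _ hr
      have hl : l ≫ (W z ⊓ f ⁻¹ᵁ U).ι = t ≫ (W z).ι := IsOpenImmersion.lift_fac _ _ _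
      have h1 : l ≫ X.homOfLE (inf_le_left : W z ⊓ f ⁻¹ᵁ U ≤ W z) = t := by
        rw [← cancel_mono (W z).ι, Category.assoc, Scheme.homOfLE_ι, hl]
      have h2 : l ≫ X.homOfLE (inf_le_right : W z ⊓ f ⁻¹ᵁ U ≤ f ⁻¹ᵁ U) = r := by
        rw [← cancel_mono (f ⁻¹ᵁ U).ι, Category.assoc, Scheme.homOfLE_ι, hl]
        exact e
      show t ≫ G z = r ≫ h
      rw [← h1, ← h2, Category.assoc, Category.assoc, hGU]
  have ptU : ∀ i (w : (O i : Scheme.{u})) (v : ↑(f ⁻¹ᵁ U)),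
      (O i).ι w = (f ⁻¹ᵁ U).ι v → m i w = h v := by
    intro i w v e
    obtain ⟨p, rfl, rfl⟩ := Scheme.Pullback.exists_preimage_pullback w v e
    rw [← Scheme.Hom.comp_apply, keyU i _ _ pullback.condition, Scheme.Hom.comp_apply]
  have ptZ : ∀ i (w : (O i : Scheme.{u})) (c : Z), (O i).ι w = iZ c → m i w = h₀ c := by
    rintro (_ | z) w c e
    · exact (hnot c (e ▸ w.2)).elim
    · have hc : c ∈ iZ ⁻¹ᵁ W z := by show iZ c ∈ W z; rw [← e]; exact w.2
      have hw : (iZ ∣_ W z) ⟨c, hc⟩ = w := by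
        apply (W z).ι.isOpenEmbedding.injective
        rw [← Scheme.Hom.comp_apply, morphismRestrict_ι]
        exact e.symm
      show G z w = h₀ c
      rw [← hw, ← Scheme.Hom.comp_apply, hGZ]
      rfl
  let 𝒰 := X.openCoverOfIsOpenCover O hO
  have hdense := Groth.Agent.S11142.result X S f U hU
  have hcompat : ∀ i j, pullback.fst (O i).ι (O j).ι ≫ m i = pullback.snd _ _ ≫ m j := by
    intro i j
    let q := pullback.fst (O i).ι (O j).ι ≫ (O i).ι
    by_cases hn : i = none ∧ j = none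
    · obtain ⟨rfl, rfl⟩ := hn
      rw [(cancel_mono (O none).ι).1 (pullback.condition (f := (O none).ι) (g := (O none).ι))]
    haveI : IsReduced (pullback (O i).ι (O j).ι) := by
      cases i with
      | some z =>
        haveI := hWred z
        exact isReduced_of_isOpenImmersion (pullback.fst (W z).ι (O j).ι)
      | none =>
        cases j with
        | some z =>
          haveI := hWred z
          exact isReduced_of_isOpenImmersion (pullback.snd (O none).ι (W z).ι)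
        | none => exact (hn ⟨rfl, rfl⟩).elim
    refine eq_of_pointwise_of_dense _ _ (q ⁻¹ᵁ (f ⁻¹ᵁ U))
      (hdense.preimage q.isOpenEmbedding.isOpenMap) (fun x => ?_) ?_
    · have e : (O i).ι (pullback.fst (O i).ι (O j).ι x) = (O j).ι (pullback.snd (O i).ι (O j).ι x) := by
        rw [← Scheme.Hom.comp_apply, ← Scheme.Hom.comp_apply, pullback.condition]
      rw [Scheme.Hom.comp_apply, Scheme.Hom.comp_apply]
      by_cases hx : q x ∈ f ⁻¹ᵁ U
      · exact (ptU i _ ⟨q x, hx⟩ rfl).trans (ptU j _ ⟨q x, hx⟩ e.symm).symm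
      · obtain ⟨c, hc⟩ : q x ∈ Set.range iZ := by rw [hZ]; exact hx
        exact (ptZ i _ c hc.symm).trans (ptZ j _ c (e.symm.trans hc.symm)).symm
    · rw [← Category.assoc, ← Category.assoc, keyU i _ (q ∣_ (f ⁻¹ᵁ U)), keyU j _ (q ∣_ (f ⁻¹ᵁ U))]
      · rw [morphismRestrict_ι, Category.assoc, ← pullback.condition]
      · rw [morphismRestrict_ι, Category.assoc]
  refine ⟨𝒰.glueMorphisms m hcompat, ?_, 𝒰.ι_glueMorphisms m hcompat none, ?_⟩
  · refine Scheme.Cover.hom_ext 𝒰 _ _ fun i => ?_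
    rw [← Category.assoc, 𝒰.ι_glueMorphisms m hcompat i]
    exact hmg i
  · have hO' : IsOpenCover fun z => iZ ⁻¹ᵁ W z :=
      eq_top_iff.2 fun c _ => TopologicalSpace.Opens.mem_iSup.2 ⟨c, hzW c⟩
    refine Scheme.Cover.hom_ext (Z.openCoverOfIsOpenCover _ hO') _ _ fun z => ?_
    show (iZ ⁻¹ᵁ W z).ι ≫ iZ ≫ _ = _
    rw [← morphismRestrict_ι_assoc]
    exact (congrArg (fun r => (iZ ∣_ W z) ≫ r) (𝒰.ι_glueMorphisms m hcompat (some z))).trans (hGZ z)

end RatExtLib
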