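import Mathlib
import Groth.Agent.S11142
import Groth.Agent.NormalExtLib.Scheme
import Groth.Agent.DvrDom.Scheme
import Groth.Agent.DvrDom.Points
import Groth.Agent.DvrDom.Mono

/-!
# Extensions with prescribed reduction
-/

set_option autoImplicit false
set_option linter.style.haveILetI false
set_option maxHeartbeats 1000000

universe u

open CategoryTheory CategoryTheory.Limits AlgebraicGeometry TopologicalSpace

namespace RatExtLib

variable {X Y S Z : Scheme.{u}} (f : X ⟶ S) (g : Y ⟶ S) (U : S.Opens) (h : ↑(f ⁻¹ᵁ U) ⟶ Y)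
  (iZ : Z ⟶ X) (h₀ : Z ⟶ Y)

/-- The hypothesis on discrete valuation rings. -/
def DvrHyp : Prop :=
  ∀ (R : Type u) [CommRing R] [IsDomain R] [IsDiscreteValuationRing R]
    (u : Spec (CommRingCat.of R) ⟶ S),
    u (IsLocalRing.closedPoint R) ∉ U → u (genericPoint ↥(Spec (CommRingCat.of R))) ∈ U →
    ∃ h₁ : pullback f u ⟶ pullback g u,
      h₁ ≫ pullback.snd g u = pullback.snd f u ∧
      ((pullback.fst f u) ⁻¹ᵁ (f ⁻¹ᵁ U)).ι ≫ h₁ ≫ pullback.fst g u = (pullback.fst f u ∣_ (f ⁻¹ᵁ U)) ≫ h ∧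
      ∀ z₁ : ↥(pullback (iZ ≫ f) u),
        (pullback (iZ ≫ f) u).fromSpecResidueField z₁ ≫
            pullback.lift (pullback.fst (iZ ≫ f) u ≫ iZ) (pullback.snd (iZ ≫ f) u)
              ((Category.assoc _ _ _).trans pullback.condition) ≫ h₁ ≫ pullback.fst g u =
          (pullback (iZ ≫ f) u).fromSpecResidueField z₁ ≫ pullback.fst (iZ ≫ f) u ≫ h₀

variable {f g U h iZ h₀}

theorem genericPoint_specMap {R K : Type u} [CommRing R] [IsDomain R] [Field K] [Algebra R K]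
    [IsFractionRing R K] :
    (Spec.map (CommRingCat.ofHom (algebraMap R K))) (IsLocalRing.closedPoint K) =
      genericPoint ↥(Spec (CommRingCat.of R)) := by
  rw [genericPoint_eq_bot_of_affine]
  refine PrimeSpectrum.ext ?_
  show Ideal.comap (algebraMap R K) (IsLocalRing.closedPoint K).asIdeal = ⊥
  rw [show (IsLocalRing.closedPoint K).asIdeal = IsLocalRing.maximalIdeal K from rfl,
    IsLocalRing.isField_iff_maximalIdeal_eq.1 (Field.toIsField K), ← RingHom.ker_eq_comap_bot,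
    RingHom.ker_eq_bot_iff_eq_zero]
  exact fun x hx => (map_eq_zero_iff _ (IsFractionRing.injective R K)).1 hx

theorem exists_trait (H : DvrHyp f g U h iZ h₀) {R : Type u} [CommRing R] [IsDomain R]
    [IsDiscreteValuationRing R] {K : Type u} [Field K] [Algebra R K] [IsFractionRing R K]
    (t : Spec (CommRingCat.of R) ⟶ X) (hcl : t (IsLocalRing.closedPoint R) ∉ f ⁻¹ᵁ U)
    (a : Spec (CommRingCat.of K) ⟶ ↑(f ⁻¹ᵁ U))
    (ha : a ≫ (f ⁻¹ᵁ U).ι = Spec.map (CommRingCat.ofHom (algebraMap R K)) ≫ t) :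
    ∃ τ : Spec (CommRingCat.of R) ⟶ Y, τ ≫ g = t ≫ f ∧
      Spec.map (CommRingCat.ofHom (algebraMap R K)) ≫ τ = a ≫ h ∧
      ∀ c : Spec (CommRingCat.of (IsLocalRing.ResidueField R)) ⟶ Z,
        c ≫ iZ = Spec.map (CommRingCat.ofHom (IsLocalRing.residue R)) ≫ t →
          Spec.map (CommRingCat.ofHom (IsLocalRing.residue R)) ≫ τ = c ≫ h₀ := by
  have hgen : (t ≫ f) (genericPoint ↥(Spec (CommRingCat.of R))) ∈ U := by
    rw [← genericPoint_specMap (R := R) (K := K), ← Scheme.Hom.comp_apply, ← Category.assoc, ← ha,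
      Scheme.Hom.comp_apply, Scheme.Hom.comp_apply]
    exact (a (IsLocalRing.closedPoint K)).2
  obtain ⟨h₁, hh₁, hU, hZ⟩ := H R (t ≫ f) hcl hgen
  let σ : Spec (CommRingCat.of R) ⟶ pullback f (t ≫ f) :=
    pullback.lift t (𝟙 _) (Category.id_comp _).symm
  refine ⟨σ ≫ h₁ ≫ pullback.fst g (t ≫ f), ?_, ?_, fun c hc => ?_⟩
  · rw [Category.assoc, Category.assoc, pullback.condition, reassoc_of% hh₁,
      pullback.lift_snd_assoc, Category.id_comp]
  · let V := (pullback.fst f (t ≫ f)) ⁻¹ᵁ (f ⁻¹ᵁ U)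
    have hr : Set.range (Spec.map (CommRingCat.ofHom (algebraMap R K)) ≫ σ).base ⊆ Set.range V.ι.base := by
      rintro _ ⟨z, rfl⟩
      rw [Scheme.Opens.range_ι]
      show ((Spec.map (CommRingCat.ofHom (algebraMap R K)) ≫ σ) ≫ pullback.fst f (t ≫ f)) z ∈ f ⁻¹ᵁ U
      rw [Category.assoc, pullback.lift_fst, ← ha]
      exact (a z).2
    let a' := IsOpenImmersion.lift V.ι _ hr
    have ha' : a' ≫ V.ι = Spec.map (CommRingCat.ofHom (algebraMap R K)) ≫ σ := IsOpenImmersion.lift_fac _ _ _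
    have ha'' : a' ≫ (pullback.fst f (t ≫ f) ∣_ (f ⁻¹ᵁ U)) = a := by
      rw [← cancel_mono (f ⁻¹ᵁ U).ι, Category.assoc, morphismRestrict_ι, ← Category.assoc, ha', Category.assoc,
        pullback.lift_fst, ha]
    rw [← ha'', ← Category.assoc, ← ha', Category.assoc, hU, Category.assoc]
  · let u := t ≫ f
    let m : Spec (CommRingCat.of (IsLocalRing.ResidueField R)) ⟶ pullback (iZ ≫ f) u :=
      pullback.lift c (Spec.map (CommRingCat.ofHom (IsLocalRing.residue R))) (by rw [reassoc_of% hc])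
    have hm := Scheme.descResidueField_stalkClosedPointTo_fromSpecResidueField _ _ m
    have h3 := congrArg (fun r => Spec.map (Scheme.descResidueField (Scheme.stalkClosedPointTo m)) ≫ r)
      (hZ (m (IsLocalRing.closedPoint _)))
    simp only [← Category.assoc] at h3
    rw [hm] at h3
    simp only [Category.assoc] at h3
    rw [pullback.lift_fst_assoc c] at h3
    rw [← h3]
    have : m ≫ pullback.lift (pullback.fst (iZ ≫ f) u ≫ iZ) (pullback.snd (iZ ≫ f) u)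
          ((Category.assoc _ _ _).trans pullback.condition) =
        Spec.map (CommRingCat.ofHom (IsLocalRing.residue R)) ≫ σ := by
      apply pullback.hom_ext
      · rw [Category.assoc, pullback.lift_fst, pullback.lift_fst_assoc, hc, Category.assoc, pullback.lift_fst]
      · rw [Category.assoc, pullback.lift_snd, pullback.lift_snd, Category.assoc, pullback.lift_snd, Category.comp_id]
    rw [reassoc_of% this]

theorem exists_residueLift [IsClosedImmersion iZ] (hZ : Set.range ⇑iZ = ((f ⁻¹ᵁ U : X.Opens) : Set ↥X)ᶜ)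
    {R : Type u} [CommRing R] [IsLocalRing R] (t : Spec (CommRingCat.of R) ⟶ X)
    (hcl : t (IsLocalRing.closedPoint R) ∉ f ⁻¹ᵁ U) :
    ∃ c : Spec (CommRingCat.of (IsLocalRing.ResidueField R)) ⟶ Z,
      c ≫ iZ = Spec.map (CommRingCat.ofHom (IsLocalRing.residue R)) ≫ t := by
  suffices key : ∀ (p : X) (r : Spec (CommRingCat.of (IsLocalRing.ResidueField R)) ⟶ X),
      r (IsLocalRing.closedPoint _) = p → p ∈ Set.range iZ → ∃ c, c ≫ iZ = r by
    refine key (t (IsLocalRing.closedPoint R)) _ ?_ (by rw [hZ]; exact hcl)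
    rw [Scheme.Hom.comp_apply]
    exact congrArg t (IsLocalRing.comap_closedPoint (IsLocalRing.residue R))
  rintro _ r hr ⟨z, rfl⟩
  obtain ⟨σ, hσ, -⟩ := DvrDomLib.exists_specResidueField_lift_of_mono iZ z
  refine ⟨Spec.map ((X.residueFieldCongr hr.symm).hom ≫ Scheme.descResidueField (Scheme.stalkClosedPointTo r)) ≫ σ, ?_⟩
  rw [Category.assoc, hσ, Spec.map_comp, Category.assoc, Scheme.residueFieldCongr_fromSpecResidueField]
  exact Scheme.descResidueField_stalkClosedPointTo_fromSpecResidueField _ _ r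

theorem specializes_closedPoint_image {R : Type u} [CommRing R] [IsLocalRing R]
    (t : Spec (CommRingCat.of R) ⟶ X) (p : Spec (CommRingCat.of R)) : t p ⤳ t (IsLocalRing.closedPoint R) :=
  (IsLocalRing.specializes_closedPoint p).map t.continuous

theorem specializes_of_trait [IsClosedImmersion iZ]
    (hZ : Set.range ⇑iZ = ((f ⁻¹ᵁ U : X.Opens) : Set ↥X)ᶜ) (H : DvrHyp f g U h iZ h₀)
    {K : Type u} [Field K] (A : ValuationSubring K) [IsDiscreteValuationRing A]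
    (t : Spec (CommRingCat.of A) ⟶ X) (a : Spec (CommRingCat.of K) ⟶ ↑(f ⁻¹ᵁ U))
    (ha : a ≫ (f ⁻¹ᵁ U).ι = Spec.map (CommRingCat.ofHom A.subtype) ≫ t)
    (w : ↑(f ⁻¹ᵁ U)) (hw : a (IsLocalRing.closedPoint K) = w)
    (z : Z) (hz : t (IsLocalRing.closedPoint A) = iZ z) :
    h w ⤳ h₀ z := by
  have hcl : t (IsLocalRing.closedPoint A) ∉ f ⁻¹ᵁ U := by
    have : iZ z ∈ Set.range iZ := ⟨z, rfl⟩
    rw [hZ] at this
    rw [hz]
    exact this
  obtain ⟨τ, -, hτ, hτ'⟩ := exists_trait (K := K) H t hcl a ha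
  obtain ⟨c, hc⟩ := exists_residueLift hZ t hcl
  have hres : (Spec.map (CommRingCat.ofHom (IsLocalRing.residue A))) (IsLocalRing.closedPoint _) =
      IsLocalRing.closedPoint A := IsLocalRing.comap_closedPoint (IsLocalRing.residue A)
  have hcz : c (IsLocalRing.closedPoint _) = z := iZ.isClosedEmbedding.injective (by
    rw [← Scheme.Hom.comp_apply, hc, Scheme.Hom.comp_apply, hres, hz])
  have h2 : h₀ z = τ (IsLocalRing.closedPoint A) := by
    rw [← hcz, ← Scheme.Hom.comp_apply, ← hτ' c hc, Scheme.Hom.comp_apply, hres]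
  have h1 : h w = τ ((Spec.map (CommRingCat.ofHom (algebraMap A K))) (IsLocalRing.closedPoint K)) := by
    rw [← Scheme.Hom.comp_apply, hτ, Scheme.Hom.comp_apply, hw]
  rw [h1, h2]
  exact specializes_closedPoint_image τ _

/-- A trait through a specialization from the open part into the closed part. -/
theorem exists_trait_through [IsLocallyNoetherian X] [IsClosedImmersion iZ]
    (hZ : Set.range ⇑iZ = ((f ⁻¹ᵁ U : X.Opens) : Set ↥X)ᶜ) (H : DvrHyp f g U h iZ h₀)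
    (w : ↑(f ⁻¹ᵁ U)) (z : Z) (hsp : ((f ⁻¹ᵁ U).ι w) ⤳ iZ z) :
    h w ⤳ h₀ z := by
  have hzU : iZ z ∉ f ⁻¹ᵁ U := by
    have : iZ z ∈ Set.range iZ := ⟨z, rfl⟩
    rwa [hZ] at this
  have hne : iZ z ≠ (f ⁻¹ᵁ U).ι w := fun e => hzU (e ▸ w.2)
  obtain ⟨A, t, hA, ht, hgen⟩ := DvrDomLib.exists_dvr_through_specialization (𝟙 X) ((f ⁻¹ᵁ U).ι w) (iZ z) hsp hne
  rw [Category.comp_id] at hgen
  have hr : Set.range (X.fromSpecResidueField ((f ⁻¹ᵁ U).ι w)).base ⊆ Set.range (f ⁻¹ᵁ U).ι.base := by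
    rintro _ ⟨s, rfl⟩
    exact ⟨w, (Scheme.fromSpecResidueField_apply _ _).symm⟩
  let a := IsOpenImmersion.lift (f ⁻¹ᵁ U).ι (X.fromSpecResidueField ((f ⁻¹ᵁ U).ι w)) hr
  haveI := hA
  refine specializes_of_trait hZ H A t a ((IsOpenImmersion.lift_fac _ _ _).trans hgen.symm) w ?_ z ht
  apply (f ⁻¹ᵁ U).ι.isOpenEmbedding.injective
  rw [← Scheme.Hom.comp_apply, IsOpenImmersion.lift_fac]
  exact Scheme.fromSpecResidueField_apply _ _

theorem exists_nhd [IsLocallyNoetherian X] [IsLocallyNoetherian S] [IsClosedImmersion iZ]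
    (hZ : Set.range ⇑iZ = ((f ⁻¹ᵁ U : X.Opens) : Set ↥X)ᶜ) (H : DvrHyp f g U h iZ h₀)
    (z : Z) [IsDomain (X.presheaf.stalk (iZ z))] (Y₀ : Y.Opens) (hy : h₀ z ∈ Y₀) (O : X.Opens) (hO : iZ z ∈ O) :
    ∃ W : X.Opens, IsAffineOpen W ∧ iZ z ∈ W ∧ W ≤ O ∧ IsIntegral (W : Scheme.{u}) ∧
      (∀ w : ↑(f ⁻¹ᵁ U), ((f ⁻¹ᵁ U).ι w) ∈ W → h w ∈ Y₀) ∧ ∀ z' : Z, iZ z' ∈ W → h₀ z' ∈ Y₀ := by
  obtain ⟨W₁, hxW₁, hW₁⟩ := NormalExtLib.exists_isIntegral_nhd (iZ z)
  obtain ⟨_, ⟨W₂, hW₂, rfl⟩, hxW₂, hW₂le⟩ :=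
    X.isBasis_affineOpens.exists_subset_of_mem_open (show iZ z ∈ W₁ ⊓ O from ⟨hxW₁, hO⟩) (W₁ ⊓ O).2
  haveI : IsNoetherianRing Γ(X, W₂) := IsLocallyNoetherian.component_noetherian ⟨W₂, hW₂⟩
  let G : Set X := (f ⁻¹ᵁ U).ι '' (h ⁻¹' (Y₀ : Set Y))
  have hG : IsOpen G := (f ⁻¹ᵁ U).ι.isOpenEmbedding.isOpenMap _ (Y₀.2.preimage h.continuous)
  let B : Set X := ((f ⁻¹ᵁ U : X.Opens) : Set X) ∩ (W₂ : Set X) ∩ Gᶜ
  let C : Set X := iZ '' (h₀ ⁻¹' (Y₀ : Set Y)ᶜ)
  have hC : IsClosed C := iZ.isClosedEmbedding.isClosedMap _ (Y₀.2.isClosed_compl.preimage h₀.continuous)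
  have hxC : iZ z ∉ C := fun ⟨z', hz', e⟩ => hz' (iZ.isClosedEmbedding.injective e ▸ hy)
  have hxB : iZ z ∉ closure B := by
    haveI : NoetherianSpace (W₂ : Set X) := noetherianSpace_of_isAffineOpen W₂ hW₂
    haveI : NoetherianSpace B :=
      (Topology.IsEmbedding.inclusion (fun x (hx : x ∈ B) => hx.1.2)).isInducing.noetherianSpace
    intro hx
    obtain ⟨𝒮, h𝒮f, h𝒮irr, h𝒮⟩ : ∃ 𝒮 : Set (Set B), 𝒮.Finite ∧ (∀ s ∈ 𝒮, IsIrreducible s) ∧ ⋃₀ 𝒮 = Set.univ :=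
      ⟨irreducibleComponents B, NoetherianSpace.finite_irreducibleComponents, fun s hs => hs.1,
        sUnion_irreducibleComponents⟩
    have hBU : B = ⋃ s ∈ 𝒮, Subtype.val '' s := by
      rw [← Set.image_iUnion₂, ← Set.sUnion_eq_biUnion, h𝒮, Set.image_univ, Subtype.range_coe]
    rw [hBU, Set.Finite.closure_biUnion h𝒮f] at hx
    obtain ⟨s, hs, hxs⟩ : ∃ s ∈ 𝒮, iZ z ∈ closure (Subtype.val '' s) := by simpa using hx
    have hirr : IsIrreducible (closure (Subtype.val '' s)) :=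
      ((h𝒮irr s hs).image _ continuous_subtype_val.continuousOn).closure
    obtain ⟨b, hb⟩ : ∃ b, IsGenericPoint b (closure (Subtype.val '' s)) :=
      QuasiSober.sober hirr isClosed_closure
    obtain ⟨⟨b₀, hb₀⟩, hbs⟩ := (h𝒮irr s hs).nonempty
    have hbb : b ⤳ b₀ := hb.specializes (subset_closure ⟨_, hbs, rfl⟩)
    have hbU : b ∈ f ⁻¹ᵁ U := hbb.mem_open (f ⁻¹ᵁ U).2 hb₀.1.1
    have hbcl : b ∈ closure B := closure_mono (by rintro _ ⟨⟨_, hh⟩, -, rfl⟩; exact hh) hb.mem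
    have hbG : b ∉ G := fun hbG => by
      obtain ⟨y, hyG, hyB⟩ := mem_closure_iff.1 hbcl G hG hbG
      exact hyB.2 hyG
    exact hbG ⟨⟨b, hbU⟩, (exists_trait_through hZ H ⟨b, hbU⟩ z (hb.specializes hxs)).mem_open Y₀.2 hy, rfl⟩
  obtain ⟨_, ⟨W, hW, rfl⟩, hxW, hWle⟩ := X.isBasis_affineOpens.exists_subset_of_mem_open
    (show iZ z ∈ (W₂ : Set X) ∩ (closure B ∪ C)ᶜ from ⟨hxW₂, fun h => h.elim hxB hxC⟩)
    (W₂.2.inter (isClosed_closure.union hC).isOpen_compl)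
  have hWW₁ : W ≤ W₁ := fun x hx => (hW₂le (hWle hx).1).1
  haveI : Nonempty (W : Scheme.{u}) := ⟨⟨_, hxW⟩⟩
  refine ⟨W, hW, hxW, fun x hx => (hW₂le (hWle hx).1).2, isIntegral_of_isOpenImmersion (X.homOfLE hWW₁),
    fun w hw => ?_, fun z' hz' => ?_⟩
  · by_contra hne
    refine (hWle hw).2 (Or.inl (subset_closure ⟨⟨w.2, (hWle hw).1⟩, ?_⟩))
    rintro ⟨w', hw', e⟩
    exact hne ((f ⁻¹ᵁ U).ι.isOpenEmbedding.injective (e.trans rfl) ▸ hw')
  · by_contra hne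
    exact (hWle hz').2 (Or.inr ⟨z', hne, rfl⟩)

end RatExtLib
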